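import Groth.Agent.CAlg1.Regular

/-!
A local ring with a regular quotient by a regular sequence is regular.
-/

set_option autoImplicit false
open IsLocalRing RingTheory.Sequence
open scoped Pointwise

universe u

namespace Groth.Agent.An92

theorem regular_of_regularSeq_aux : ∀ (n : ℕ) (A : Type u) [CommRing A] [IsLocalRing A] [IsNoetherianRing A]
    (rs : List A), rs.length = n → IsWeaklyRegular A rs →
    IsRegularLocalRing (A ⧸ Ideal.ofList rs) → IsRegularLocalRing A := by
  intro n
  induction n with
  | zero =>
    intro A _ _ _ rs hn _ h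
    rw [List.length_eq_zero_iff] at hn
    subst hn
    exact IsRegularLocalRing.of_ringEquiv
      ((Ideal.quotEquivOfEq Ideal.ofList_nil).trans (RingEquiv.quotientBot A))
  | succ n ih =>
    intro A _ _ _ rs hn hreg h
    obtain ⟨y, ys, rfl⟩ : ∃ y ys, rs = y :: ys := by
      cases rs with
      | nil => simp at hn
      | cons y ys => exact ⟨y, ys, rfl⟩
    rw [isWeaklyRegular_cons_iff] at hreg
    have hne : Ideal.ofList (y :: ys) ≠ ⊤ := fun ht => by
      have := h.toIsLocalRing.toNontrivial
      exact Ideal.Quotient.nontrivial_iff.1 this ht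
    have hy : y ∈ maximalIdeal A := le_maximalIdeal hne
      (Ideal.ofList_cons y ys ▸ Submodule.mem_sup_left (Ideal.mem_span_singleton_self y))
    let A' := A ⧸ Ideal.span ({y} : Set A)
    have := CAlg1.isLocalRing_quotient_singleton hy
    let e : QuotSMulTop y A ≃ₗ[A] A' := Submodule.quotEquivOfEq _ _ (by
      rw [← Submodule.ideal_span_singleton_smul, smul_eq_mul, Ideal.mul_top])
    have hys : IsWeaklyRegular A' (ys.map (algebraMap A A')) :=
      (isWeaklyRegular_map_algebraMap_iff A' A' ys).2 ((e.isWeaklyRegular_congr ys).1 hreg.2)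
    have hq : IsRegularLocalRing (A' ⧸ Ideal.ofList (ys.map (algebraMap A A'))) := by
      refine @IsRegularLocalRing.of_ringEquiv _ _ h _ _ ?_
      exact ((Ideal.quotEquivOfEq (by rw [Ideal.ofList_cons])).trans
        (DoubleQuot.quotQuotEquivQuotSup _ _).symm).trans (Ideal.quotEquivOfEq (Ideal.map_ofList _ _))
    have hA' : IsRegularLocalRing A' := ih A' _ (by simpa using hn) hys hq
    have hnzd : y ∈ nonZeroDivisors A :=
      mem_nonZeroDivisors_iff_right.2 fun z hz => hreg.1.right_eq_zero_of_smul (by rw [smul_eq_mul, mul_comm, hz])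
    exact CAlg1.regular_of_quotient_regular hy hnzd

theorem regular_of_regularSeq {A : Type u} [CommRing A] [IsLocalRing A] [IsNoetherianRing A] (rs : List A)
    (h : IsWeaklyRegular A rs) (hq : IsRegularLocalRing (A ⧸ Ideal.ofList rs)) : IsRegularLocalRing A :=
  regular_of_regularSeq_aux _ A rs rfl h hq

end Groth.Agent.An92
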